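import Mathlib.GroupTheory.Commutator.Basic
import Mathlib.GroupTheory.Subgroup.Centralizer
import Mathlib.GroupTheory.OrderOfElement
import Mathlib.GroupTheory.Index
import Mathlib.GroupTheory.QuotientGroup.Basic
import Cfsg.Prelude.Def_Transfer

/-! Extraspecial 2-subgroups, elementwise: commutator pairing and double centralisers (owner helper8). -/

set_option autoImplicit false
set_option linter.all false

open scoped commutatorElement

namespace CfsgLib.Extra2

variable {G : Type*} [Group G]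

/-- `E` has centre `{1, z}` of order 2 and commutators in it. -/
structure IsExt (z : G) (E : Subgroup G) : Prop where
  mem : z ∈ E
  sq : z * z = 1
  ne_one : z ≠ 1
  central : ∀ a ∈ E, Commute a z
  cases : ∀ a ∈ E, ∀ b ∈ E, a * b = b * a ∨ a * b = b * a * z
  center : ∀ v ∈ E, (∀ a ∈ E, Commute a v) → v = 1 ∨ v = z

theorem card_le_two_mul [Finite G] {S T : Subgroup G} (h : ∀ a ∈ S, ∀ b ∈ S, a ∉ T → b ∉ T → a⁻¹ * b ∈ T) :
    Nat.card ↥S ≤ 2 * Nat.card ↥T := by
  classical
  by_cases hST : S ≤ T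
  · exact (Subgroup.card_le_of_le hST).trans (Nat.le_mul_of_pos_left _ (by omega))
  obtain ⟨a, haS, haT⟩ := SetLike.not_le_iff_exists.mp hST
  have : (S : Set G) ⊆ (T : Set G) ∪ (a * ·) '' (T : Set G) := by
    intro b hb
    by_cases hbT : b ∈ T
    · exact Or.inl hbT
    · exact Or.inr ⟨a⁻¹ * b, h a haS b hb haT hbT, mul_inv_cancel_left a b⟩
  have h2 := (Set.ncard_le_ncard this (Set.toFinite _)).trans (Set.ncard_union_le _ _)
  have h3 := Set.ncard_image_le (f := (a * ·)) (Set.toFinite (T : Set G))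
  rw [← Nat.card_coe_set_eq, ← Nat.card_coe_set_eq] at h2 h3
  have h4 : Nat.card ↥((T : Set G)) = Nat.card ↥T := rfl
  have h5 : Nat.card ↥((S : Set G)) = Nat.card ↥S := rfl
  simp only [← Nat.card_coe_set_eq] at h2 h3
  omega

theorem card_two_mul_le [Finite G] {S T : Subgroup G} (h : S < T) : 2 * Nat.card ↥S ≤ Nat.card ↥T := by
  obtain ⟨k, hk⟩ := Subgroup.card_dvd_of_le h.le
  rw [hk, mul_comm]
  refine Nat.mul_le_mul_left _ ?_
  by_contra hk2
  have : k = 0 ∨ k = 1 := by omega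
  rcases this with rfl | rfl
  · exact Nat.card_pos.ne' (hk.trans (mul_zero _))
  · exact h.ne (Subgroup.eq_of_le_of_card_ge h.le (by rw [hk, mul_one]))

variable {z : G} {E : Subgroup G}

namespace IsExt

theorem comm_cases (hE : IsExt z E) {a b : G} (ha : a ∈ E) (hb : b ∈ E) :
    ⁅a, b⁆ = 1 ∨ ⁅a, b⁆ = z := by
  rcases hE.cases a ha b hb with h | h
  · exact Or.inl (commutatorElement_eq_one_iff_mul_comm.mpr h)
  · right
    have hc := (hE.central _ (E.mul_mem hb ha)).eq
    rw [commutatorElement_def, h, hc]; group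

theorem conj_cases (hE : IsExt z E) {a b : G} (ha : a ∈ E) (hb : b ∈ E) :
    a * b * a⁻¹ = b ∨ a * b * a⁻¹ = b * z := by
  rcases hE.cases a ha b hb with h | h <;> [left; right]
  · rw [h, mul_inv_cancel_right]
  · rw [h, mul_assoc b a z, (hE.central a ha).eq, mul_assoc, mul_assoc, mul_inv_cancel, mul_one]

theorem conj_eq_of_not_commute (hE : IsExt z E) {a b : G} (ha : a ∈ E) (hb : b ∈ E) (h : ¬ Commute a b) :
    a * b * a⁻¹ = b * z :=
  (hE.conj_cases ha hb).resolve_left fun e => h (mul_inv_eq_iff_eq_mul.mp e)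

theorem mul_eq_of_not_commute (hE : IsExt z E) {a b : G} (ha : a ∈ E) (hb : b ∈ E) (h : ¬ Commute a b) :
    a * b = b * a * z :=
  (hE.cases a ha b hb).resolve_left h

theorem commute_mul_iff (hE : IsExt z E) {a b c : G} (ha : a ∈ E) (hb : b ∈ E) (hc : c ∈ E) :
    Commute (a * b) c ↔ (Commute a c ↔ Commute b c) := by
  by_cases h1 : Commute a c <;> by_cases h2 : Commute b c <;> simp only [h1, h2, iff_true, iff_false, true_iff,
    false_iff, not_true, not_false_iff]
  · exact h1.mul_left h2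
  · intro h
    have : b = a⁻¹ * (a * b) := by group
    exact h2 (this ▸ h1.inv_left.mul_left h)
  · intro h
    have : a = a * b * b⁻¹ := by group
    exact h1 (this ▸ h.mul_left h2.inv_left)
  · have e1 := hE.mul_eq_of_not_commute ha hc h1
    have e2 := hE.mul_eq_of_not_commute hb hc h2
    show a * b * c = c * (a * b)
    calc a * b * c = a * c * (b * z) := by rw [mul_assoc a b c, e2]; group
      _ = c * a * (z * (b * z)) := by rw [e1]; group
      _ = c * (a * b) * (z * z) := by rw [← mul_assoc z b z, ← (hE.central b hb).eq]; group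
      _ = c * (a * b) := by rw [hE.sq, mul_one]

theorem sq_mem (hE : IsExt z E) {a : G} (ha : a ∈ E) : a * a = 1 ∨ a * a = z := by
  refine hE.center _ (E.mul_mem ha ha) fun b hb => ((hE.commute_mul_iff ha ha hb).mpr Iff.rfl).symm

/-- For `Z(E) ≤ S ≤ T ≤ E`: `|C_E(S)| |S| ≤ |C_E(T)| |T|`. -/
theorem card_mono [Finite G] (hE : IsExt z E) : ∀ n : ℕ, ∀ S T : Subgroup G, T ≤ E → S ≤ T →
    Nat.card ↥T ≤ Nat.card ↥S + n →
    Nat.card ↥(E ⊓ Subgroup.centralizer (S : Set G)) * Nat.card ↥S ≤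
      Nat.card ↥(E ⊓ Subgroup.centralizer (T : Set G)) * Nat.card ↥T := by
  intro n
  induction n with
  | zero =>
    intro S T _ hST h
    rw [Subgroup.eq_of_le_of_card_ge hST (by omega)]
  | succ n ih =>
    intro S T hTE hST h
    by_cases hTS : T ≤ S
    · rw [le_antisymm hST hTS]
    obtain ⟨a, haT, haS⟩ := SetLike.not_le_iff_exists.mp hTS
    set S' := S ⊔ Subgroup.zpowers a with hS'
    have hlt : S < S' := lt_of_le_of_ne le_sup_left fun e =>
      haS (e ▸ Subgroup.mem_sup_right (Subgroup.mem_zpowers a))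
    have hS'T : S' ≤ T := sup_le hST (Subgroup.zpowers_le.mpr haT)
    have h1 := card_two_mul_le hlt
    have hpos : 0 < Nat.card ↥S := Nat.card_pos
    refine le_trans ?_ (ih S' T hTE hS'T (by omega))
    have h2 : Nat.card ↥(E ⊓ Subgroup.centralizer (S : Set G)) ≤
        2 * Nat.card ↥(E ⊓ Subgroup.centralizer (S' : Set G)) := by
      refine card_le_two_mul fun u hu v hv hu' hv' => ?_
      have key : ∀ u ∈ E ⊓ Subgroup.centralizer (S : Set G), Commute u a →
          u ∈ E ⊓ Subgroup.centralizer (S' : Set G) := fun u hu hc => by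
        refine ⟨hu.1, fun s hs => ?_⟩
        have hle : S' ≤ Subgroup.centralizer ({u} : Set G) := sup_le (fun s hs =>
            Subgroup.mem_centralizer_singleton_iff.mpr (hu.2 s hs))
          (Subgroup.zpowers_le.mpr (Subgroup.mem_centralizer_singleton_iff.mpr hc.eq.symm))
        exact Subgroup.mem_centralizer_singleton_iff.mp (hle hs)
      refine key _ (Subgroup.mul_mem _ (Subgroup.inv_mem _ hu) hv) ?_
      rw [hE.commute_mul_iff (E.inv_mem hu.1) hv.1 (hTE haT)]
      exact iff_of_false (fun h => hu' (key u hu (by simpa using h.inv_left))) (fun h => hv' (key v hv h))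
    calc _ ≤ (2 * Nat.card ↥(E ⊓ Subgroup.centralizer (S' : Set G))) * Nat.card ↥S := Nat.mul_le_mul_right _ h2
      _ = Nat.card ↥(E ⊓ Subgroup.centralizer (S' : Set G)) * (2 * Nat.card ↥S) := by ring
      _ ≤ _ := Nat.mul_le_mul_left _ h1

/-- Double centraliser property. -/
theorem exists_separating [Finite G] (hE : IsExt z E) {S : Subgroup G} (hSE : S ≤ E) (hzS : z ∈ S) {v : G}
    (hv : v ∈ E) (hvS : v ∉ S) :
    ∃ g ∈ E, (∀ s ∈ S, Commute g s) ∧ g * v * g⁻¹ = v * z := by
  by_contra hcon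
  push Not at hcon
  set Z := Subgroup.zpowers z with hZ
  have hZcard : Nat.card ↥Z = 2 := by
    rw [Nat.card_zpowers, orderOf_eq_prime (by rw [pow_two]; exact hE.sq) hE.ne_one]
  have hZS : Z ≤ S := Subgroup.zpowers_le.mpr hzS
  set S' := S ⊔ Subgroup.zpowers v with hS'
  have hlt : S < S' := lt_of_le_of_ne le_sup_left fun e =>
    hvS (e ▸ Subgroup.mem_sup_right (Subgroup.mem_zpowers v))
  have hS'E : S' ≤ E := sup_le hSE (Subgroup.zpowers_le.mpr hv)
  have heq : E ⊓ Subgroup.centralizer (S : Set G) ≤ E ⊓ Subgroup.centralizer (S' : Set G) := by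
    rintro g ⟨hg, hgS⟩
    refine ⟨hg, fun s hs => ?_⟩
    have hgv : Commute g v := by
      by_contra hne
      exact hcon g hg (fun s hs => (hgS s hs).symm) (hE.conj_eq_of_not_commute hg hv hne)
    have hle : S' ≤ Subgroup.centralizer ({g} : Set G) := sup_le (fun s hs =>
        Subgroup.mem_centralizer_singleton_iff.mpr (hgS s hs))
      (Subgroup.zpowers_le.mpr (Subgroup.mem_centralizer_singleton_iff.mpr hgv.eq.symm))
    exact Subgroup.mem_centralizer_singleton_iff.mp (hle hs)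
  have h1 := hE.card_mono (Nat.card ↥S) Z S hSE hZS (by omega)
  have h2 := hE.card_mono (Nat.card ↥E) S' E le_rfl hS'E (by omega)
  have hCZ : E ⊓ Subgroup.centralizer (Z : Set G) = E := by
    rw [inf_eq_left]
    intro e he c hc
    obtain ⟨k, rfl⟩ := Subgroup.mem_zpowers_iff.mp hc
    exact ((hE.central e he).zpow_right k).eq.symm
  have hCE : E ⊓ Subgroup.centralizer (E : Set G) ≤ Z := by
    rintro c ⟨hc, hc'⟩
    rcases hE.center c hc (fun a ha => hc' a ha) with rfl | rfl
    · exact Z.one_mem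
    · exact Subgroup.mem_zpowers _
  rw [hCZ, hZcard] at h1
  have h4 := Subgroup.card_le_of_le heq
  have h5 := card_two_mul_le hlt
  have h6 := Subgroup.card_le_of_le hCE
  rw [hZcard] at h6
  have hE0 : 0 < Nat.card ↥E := Nat.card_pos
  have h7 : 2 * (Nat.card ↥(E ⊓ Subgroup.centralizer (S : Set G)) * Nat.card ↥S) ≤
      Nat.card ↥(E ⊓ Subgroup.centralizer (S' : Set G)) * Nat.card ↥S' := by
    calc _ = Nat.card ↥(E ⊓ Subgroup.centralizer (S : Set G)) * (2 * Nat.card ↥S) := by ring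
      _ ≤ _ := Nat.mul_le_mul h4 h5
  have h8 := h7.trans (h2.trans (Nat.mul_le_mul_right _ h6))
  omega

/-- An automorphism of `E` by conjugation that is trivial modulo the centre is inner. -/
theorem exists_inner [Finite G] (hE : IsExt z E) {g : G} (hgz : g * z * g⁻¹ = z)
    (hg : ∀ e ∈ E, g * e * g⁻¹ = e ∨ g * e * g⁻¹ = e * z) :
    ∃ f ∈ E, ∀ e ∈ E, f * e * f⁻¹ = g * e * g⁻¹ := by
  set M := E ⊓ Subgroup.centralizer ({g} : Set G) with hM
  have hmem : ∀ e ∈ E, (e ∈ M ↔ g * e * g⁻¹ = e) := fun e he => by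
    rw [mul_inv_eq_iff_eq_mul]
    exact ⟨fun h => (Subgroup.mem_centralizer_singleton_iff.mp h.2).symm,
      fun h => ⟨he, Subgroup.mem_centralizer_singleton_iff.mpr h.symm⟩⟩
  by_cases hall : E ≤ M
  · exact ⟨1, E.one_mem, fun e he => by rw [(hmem e he).mp (hall he)]; group⟩
  obtain ⟨v, hv, hvM⟩ := SetLike.not_le_iff_exists.mp hall
  obtain ⟨f, hf, hfM, hfv⟩ := hE.exists_separating inf_le_left ((hmem z hE.mem).mpr hgz) hv hvM
  refine ⟨f, hf, fun e he => ?_⟩
  by_cases heM : e ∈ M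
  · rw [(hmem e he).mp heM, (hfM e heM).eq, mul_inv_cancel_right]
  · have e1 : g * e * g⁻¹ = e * z := (hg e he).resolve_left fun h => heM ((hmem e he).mpr h)
    have e2 : g * v * g⁻¹ = v * z := (hg v hv).resolve_left fun h => hvM ((hmem v hv).mpr h)
    have e3 : g * (v⁻¹ * e) * g⁻¹ = v⁻¹ * e := by
      calc g * (v⁻¹ * e) * g⁻¹ = (g * v * g⁻¹)⁻¹ * (g * e * g⁻¹) := by group
        _ = z⁻¹ * (v⁻¹ * e) * z := by rw [e1, e2]; group
        _ = z⁻¹ * (z * (v⁻¹ * e)) := by
          rw [mul_assoc, (hE.central _ (E.mul_mem (E.inv_mem hv) he)).eq]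
        _ = _ := by group
    have e4 : Commute f (v⁻¹ * e) := hfM _ ((hmem _ (E.mul_mem (E.inv_mem hv) he)).mpr e3)
    rw [e1]
    calc f * e * f⁻¹ = f * v * f⁻¹ * (f * (v⁻¹ * e) * f⁻¹) := by group
      _ = v * z * (v⁻¹ * e) := by rw [hfv, e4.eq, mul_inv_cancel_right]
      _ = v * (z * (v⁻¹ * e)) := by group
      _ = v * ((v⁻¹ * e) * z) := by rw [(hE.central _ (E.mul_mem (E.inv_mem hv) he)).eq]
      _ = _ := by group

theorem conj (hE : IsExt z E) (g : G) : IsExt (g * z * g⁻¹) (E.map (MulAut.conj g).toMonoidHom) := by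
  refine ⟨⟨z, hE.mem, rfl⟩, ?_, ?_, ?_, ?_, ?_⟩
  · calc g * z * g⁻¹ * (g * z * g⁻¹) = g * (z * z) * g⁻¹ := by group
      _ = 1 := by rw [hE.sq]; group
  · exact fun h => hE.ne_one (conj_eq_one_iff.mp h)
  · rintro _ ⟨a, ha, rfl⟩
    exact (hE.central a ha).map (MulAut.conj g).toMonoidHom
  · rintro _ ⟨a, ha, rfl⟩ _ ⟨b, hb, rfl⟩
    rcases hE.cases a ha b hb with h | h
    · exact Or.inl (by rw [← map_mul, h, map_mul])
    · exact Or.inr (by rw [← map_mul, h, map_mul, map_mul]; rfl)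
  · rintro _ ⟨v, hv, rfl⟩ h
    rcases hE.center v hv (fun a ha => by
      have h' := h _ ⟨a, ha, rfl⟩
      exact (MulAut.conj g).injective (by rw [map_mul, map_mul]; exact h'.eq)) with rfl | rfl
    · exact Or.inl (map_one _)
    · exact Or.inr rfl

end IsExt

theorem isExt_of_extraspecial [Finite G] (h : Cfsg.IsExtraspecial 2 ↥E) :
    ∃ z, IsExt z E := by
  classical
  obtain ⟨⟨⟨z, hzE⟩, hzc⟩, hz⟩ := exists_prime_orderOf_dvd_card' (hp := ⟨Nat.prime_two⟩)
    (G := ↥(Subgroup.center ↥E)) 2 (by rw [h.2])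
  have hcl : ∀ c ∈ Subgroup.center ↥E, (c : G) = 1 ∨ (c : G) = z := by
    intro c hc
    have htop : Subgroup.zpowers (⟨⟨z, hzE⟩, hzc⟩ : ↥(Subgroup.center ↥E)) = ⊤ :=
      Subgroup.eq_top_of_card_eq _ (by rw [Nat.card_zpowers, hz, h.2])
    have hm : (⟨c, hc⟩ : ↥(Subgroup.center ↥E)) ∈ Subgroup.zpowers (⟨⟨z, hzE⟩, hzc⟩ : ↥(Subgroup.center ↥E)) := by
      rw [htop]; exact Subgroup.mem_top _
    rw [mem_zpowers_iff_mem_range_orderOf, hz, Finset.mem_image] at hm
    obtain ⟨k, hk, hk'⟩ := hm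
    have hk2 : k = 0 ∨ k = 1 := by rw [Finset.mem_range] at hk; omega
    have e : (c : G) = z ^ k := by
      have := congrArg (fun a : ↥(Subgroup.center ↥E) => ((a : ↥E) : G)) hk'
      simpa using this.symm
    rcases hk2 with rfl | rfl
    · exact Or.inl (by simpa using e)
    · exact Or.inr (by simpa using e)
  have hsq : z * z = 1 := by
    have := congrArg (fun a : ↥(Subgroup.center ↥E) => ((a : ↥E) : G)) (pow_orderOf_eq_one (⟨⟨z, hzE⟩, hzc⟩ : ↥(Subgroup.center ↥E)))
    rw [hz, pow_two] at this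
    simpa using this
  have hne : z ≠ 1 := fun e => by
    subst e
    have h1 : (⟨⟨1, hzE⟩, hzc⟩ : ↥(Subgroup.center ↥E)) = 1 := rfl
    rw [h1, orderOf_one] at hz
    omega
  refine ⟨z, hzE, hsq, hne, fun a ha => congrArg Subtype.val (Subgroup.mem_center_iff.mp hzc ⟨a, ha⟩), ?_, ?_⟩
  · intro a ha b hb
    have hm : ⁅(⟨a, ha⟩ : ↥E), ⟨b, hb⟩⁆ ∈ Subgroup.center ↥E := by
      rw [← h.1.2.2]
      exact Subgroup.commutator_mem_commutator (Subgroup.mem_top _) (Subgroup.mem_top _)
    have e0 : a * b = (a * b * a⁻¹ * b⁻¹) * (b * a) := by group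
    rcases hcl _ hm with e | e <;> simp only [commutatorElement_def, Subgroup.coe_mul, Subgroup.coe_inv] at e
    · left; rw [e0, e, one_mul]
    · right
      rw [e0, e]
      exact (congrArg Subtype.val (Subgroup.mem_center_iff.mp hzc (⟨b, hb⟩ * ⟨a, ha⟩))).symm
  · intro v hv hc
    exact hcl ⟨v, hv⟩ (Subgroup.mem_center_iff.mpr fun a => Subtype.ext (hc a.1 a.2).eq)

theorem isExt_top [Finite G] (h : Cfsg.IsExtraspecial 2 G) : ∃ z, IsExt z (⊤ : Subgroup G) := by
  obtain ⟨⟨z, hzc⟩, hz⟩ := exists_prime_orderOf_dvd_card' (hp := ⟨Nat.prime_two⟩)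
    (G := ↥(Subgroup.center G)) 2 (by rw [h.2])
  have hc := Subgroup.mem_center_iff.mp hzc
  rw [orderOf_eq_iff (by norm_num : 0 < 2)] at hz
  have hz1 : z ≠ 1 := fun e => hz.2 1 (by norm_num) (by norm_num) (Subtype.ext (by simp [e]))
  have hz2 : z * z = 1 := by
    have := congrArg Subtype.val hz.1
    simpa [pow_two] using this
  have hcl : ∀ c ∈ Subgroup.center G, c = 1 ∨ c = z := by
    intro c hcc
    by_contra hne
    push Not at hne
    have hsub : ({1, z, c} : Set G) ⊆ (Subgroup.center G : Set G) := by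
      rintro u (rfl | rfl | rfl)
      exacts [Subgroup.one_mem _, hzc, hcc]
    have h3 := Set.ncard_le_ncard hsub (Set.toFinite _)
    rw [Set.ncard_eq_three.mpr ⟨1, z, c, Ne.symm hz1, Ne.symm hne.1, Ne.symm hne.2, rfl⟩,
      ← Nat.card_coe_set_eq] at h3
    have h4 : Nat.card ↥((Subgroup.center G : Set G)) = 2 := h.2
    omega
  refine ⟨z, Subgroup.mem_top z, hz2, hz1, fun a _ => hc a, fun a _ b _ => ?_, fun v _ hv => hcl v
    (Subgroup.mem_center_iff.mpr fun a => (hv a trivial).eq)⟩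
  have hm : ⁅a, b⁆ ∈ Subgroup.center G := by
    rw [← h.1.2.2]; exact Subgroup.commutator_mem_commutator (Subgroup.mem_top _) (Subgroup.mem_top _)
  have e0 : a * b = (a * b * a⁻¹ * b⁻¹) * (b * a) := by group
  rcases hcl _ hm with e | e <;> rw [commutatorElement_def] at e
  · left; rw [e0, e, one_mul]
  · right; rw [e0, e, hc]

end CfsgLib.Extra2
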