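import Cfsg.Agent.Lib.Extra2.Basic

/-!
The local analysis behind "orthogonality of singular involutions is symmetric": an involution `z`
centralised by `A` acting on a large extraspecial `F` (owner helper8).
-/

set_option autoImplicit false
set_option linter.all false
set_option maxHeartbeats 1000000

open scoped commutatorElement

namespace CfsgLib.Extra2

variable {X : Type*} [Group X]

theorem mem_zpowers_cases {x u : X} (hx : x * x = 1) (h : u ∈ Subgroup.zpowers x) : u = 1 ∨ u = x := by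
  obtain ⟨k, rfl⟩ := Subgroup.mem_zpowers_iff.mp h
  obtain ⟨j, rfl⟩ | ⟨j, rfl⟩ := Int.even_or_odd k
  · exact Or.inl (by rw [← two_mul, zpow_mul, zpow_two, hx, one_zpow])
  · exact Or.inr (by rw [zpow_add_one, zpow_mul, zpow_two, hx, one_zpow, one_mul])

theorem core [Finite X] (x z : X) (F A : Subgroup X) [F.Normal] (hF : IsExt x F) (hx : ∀ g : X, Commute x g)
    (hz2 : z * z = 1) (hzF : z ∉ F) (hself : Subgroup.centralizer (F : Set X) ≤ F)
    (hA : ∀ g ∈ A, Commute g z) (hAc : ∀ g ∈ A, ∀ h ∈ A, g * h = h * g ∨ g * h = h * g * z)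
    (hD : ∀ d ∈ F, Commute d z → ∀ g ∈ A, ⁅g, d⁆ ∈ Subgroup.zpowers x) :
    (∀ g ∈ A, ∀ h ∈ A, Commute g h) ∨
    ((∃ K : Subgroup X, K ≤ A ∧ (∀ g ∈ K, ∀ h ∈ K, Commute g h) ∧
        ∀ g ∈ A, ∀ h ∈ A, g ∉ K → h ∉ K → g⁻¹ * h ∈ K) ∧
      6 * Nat.card ↥(F ⊓ Subgroup.centralizer ({z} : Set X)) ≤ Nat.card ↥F) := by
  classical
  haveI : (Subgroup.zpowers x).Normal := ⟨fun n hn g => by
    obtain ⟨k, rfl⟩ := Subgroup.mem_zpowers_iff.mp hn
    rw [((hx g).zpow_left k).eq.symm, mul_inv_cancel_right]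
    exact Subgroup.zpow_mem _ (Subgroup.mem_zpowers x) k⟩
  let π := QuotientGroup.mk' (Subgroup.zpowers x)
  have hker : ∀ u, π u = 1 ↔ u = 1 ∨ u = x := fun u => by
    show ((u : X ⧸ Subgroup.zpowers x) = 1) ↔ _
    rw [QuotientGroup.eq_one_iff]
    refine ⟨mem_zpowers_cases hF.sq, ?_⟩
    rintro (rfl | rfl)
    · exact Subgroup.one_mem _
    · exact Subgroup.mem_zpowers _
  have hcF : ∀ g : X, ∀ v ∈ F, ⁅g, v⁆ ∈ F := fun g v hv => by
    rw [commutatorElement_def]
    exact F.mul_mem (Subgroup.Normal.conj_mem inferInstance v hv g) (F.inv_mem hv)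
  have hπc : ∀ u ∈ F, ∀ v ∈ F, Commute (π u) (π v) := by
    intro u hu v hv
    refine commutatorElement_eq_one_iff_mul_comm.mp ?_
    rw [← map_commutatorElement, hker]
    exact hF.comm_cases hu hv
  have hπinv : ∀ u ∈ F, (π u)⁻¹ = π u := by
    intro u hu
    refine inv_eq_of_mul_eq_one_right ?_
    rw [← map_mul, hker]
    exact hF.sq_mem hu
  -- conjugation preserves the pairing
  have hconj : ∀ g u v : X, Commute (g * u * g⁻¹) (g * v * g⁻¹) ↔ Commute u v := fun g u v => by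
    refine ⟨fun h => ?_, fun h => h.map (MulAut.conj g).toMonoidHom⟩
    have := h.map (MulAut.conj g⁻¹).toMonoidHom
    simpa [MulAut.conj_apply, mul_assoc] using this
  have hmod : ∀ v ∈ F, ∀ u : X, π u = π v → ∀ w : X, (Commute u w ↔ Commute v w) := by
    intro v _ u h w
    have h' : u * v⁻¹ = 1 ∨ u * v⁻¹ = x := (hker _).mp (by rw [map_mul, h, map_inv, mul_inv_cancel])
    rcases h' with h' | h'
    · rw [mul_inv_eq_one.mp h']
    · rw [mul_inv_eq_iff_eq_mul.mp h']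
      exact ⟨fun h => by simpa using (hx w).inv_left.mul_left h, fun h => (hx w).mul_left h⟩
  have hadj : ∀ u ∈ F, ∀ v ∈ F, (Commute ⁅z, u⁆ v ↔ Commute u ⁅z, v⁆) := by
    intro u hu v hv
    have h1 : z * u * z⁻¹ = ⁅z, u⁆ * u := by simp [commutatorElement_def]
    have hz' : z⁻¹ = z := inv_eq_of_mul_eq_one_right hz2
    have h2 : z * (⁅z, v⁆ * v) * z⁻¹ = v := by
      rw [commutatorElement_def, hz', mul_assoc (z * v * z), inv_mul_cancel, mul_one]
      calc z * (z * v * z) * z = z * z * v * (z * z) := by group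
        _ = v := by rw [hz2]; group
    have h3 := hconj z u (⁅z, v⁆ * v)
    rw [h1, h2] at h3
    have h4 := hF.commute_mul_iff (hcF z u hu) hu hv
    have h5 := hF.commute_mul_iff (hcF z v hv) hv hu
    rw [Commute.symm_iff (a := ⁅z, v⁆ * v), Commute.symm_iff (a := ⁅z, v⁆) (b := u), Commute.symm_iff (a := v) (b := u)] at h5
    tauto
  have hFc : ∀ v ∈ F, (∀ y ∈ F, Commute v y) → π v = 1 := fun v hv h =>
    (hker v).mpr (hF.center v hv fun a ha => (h a ha).symm)
  -- `W`: centralised by `z` modulo `x`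
  set W : Subgroup X := F ⊓ (Subgroup.centralizer ({π z} : Set (X ⧸ Subgroup.zpowers x))).comap π with hWdef
  have hWmem : ∀ v ∈ F, (v ∈ W ↔ π ⁅z, v⁆ = 1) := fun v hv => by
    rw [map_commutatorElement, commutatorElement_eq_one_iff_mul_comm]
    exact ⟨fun h => (Subgroup.mem_centralizer_singleton_iff.mp h.2).symm,
      fun h => ⟨hv, Subgroup.mem_centralizer_singleton_iff.mpr h.symm⟩⟩
  set D : Subgroup X := F ⊓ Subgroup.centralizer ({z} : Set X) with hDdef
  have hDmem : ∀ v ∈ F, (v ∈ D ↔ ⁅z, v⁆ = 1) := fun v hv => by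
    rw [commutatorElement_eq_one_iff_mul_comm]
    exact ⟨fun h => (Subgroup.mem_centralizer_singleton_iff.mp h.2).symm,
      fun h => ⟨hv, Subgroup.mem_centralizer_singleton_iff.mpr h.symm⟩⟩
  have hDW : D ≤ W := fun v hv => (hWmem v hv.1).mpr (by rw [(hDmem v hv.1).mp hv, map_one])
  have hzconj : ∀ w ∈ W, w ∉ D → z * w * z⁻¹ = x * w := by
    intro w hw hwD
    have h := ((hker _).mp ((hWmem w hw.1).mp hw)).resolve_left fun e => hwD ((hDmem w hw.1).mpr e)
    rw [commutatorElement_def] at h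
    rw [← h, inv_mul_cancel_right]
  have hWD2 : ∀ u ∈ W, ∀ v ∈ W, u ∉ D → v ∉ D → u⁻¹ * v ∈ D := by
    intro u hu v hv hu' hv'
    refine (hDmem _ (F.mul_mem (F.inv_mem hu.1) hv.1)).mpr (commutatorElement_eq_one_iff_mul_comm.mpr ?_)
    refine mul_inv_eq_iff_eq_mul.mp ?_
    calc z * (u⁻¹ * v) * z⁻¹ = (z * u * z⁻¹)⁻¹ * (z * v * z⁻¹) := by group
      _ = (x * u)⁻¹ * (x * v) := by rw [hzconj u hu hu', hzconj v hv hv']
      _ = u⁻¹ * v := by group
  have hAD : ∀ g ∈ A, ∀ d ∈ D, π (g * d * g⁻¹) = π d := by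
    intro g hg d hd
    have h := hD d hd.1 (Subgroup.mem_centralizer_singleton_iff.mp hd.2) g hg
    rw [← QuotientGroup.eq_one_iff] at h
    change π ⁅g, d⁆ = 1 at h
    rw [commutatorElement_def, map_mul, map_inv, mul_inv_eq_one] at h
    exact h
  have hperp : ∀ g ∈ A, ∀ v ∈ F, ∀ d ∈ F, π (g * d * g⁻¹) = π d → Commute ⁅g, v⁆ d := by
    intro g hg v hv d hd he
    have h1 := hconj g v d
    have h0 : g * v * g⁻¹ = ⁅g, v⁆ * v := by simp [commutatorElement_def]
    rw [Commute.symm_iff, hmod d hd _ he, Commute.symm_iff, h0] at h1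
    have h4 := hF.commute_mul_iff (hcF g v hv) hv hd
    tauto
  -- `R`: commutators with `z` modulo `x`
  let δ : ↥F →* X ⧸ Subgroup.zpowers x :=
    { toFun := fun v => π ⁅z, (v : X)⁆
      map_one' := by simp
      map_mul' := fun u v => by
        have e : ⁅z, (u : X) * v⁆ = ⁅z, (u : X)⁆ * ((u : X) * ⁅z, (v : X)⁆ * (u : X)⁻¹) := by
          simp only [commutatorElement_def]; group
        rw [Subgroup.coe_mul, e, map_mul, map_mul, map_mul, map_inv, (hπc _ u.2 _ (hcF z _ v.2)).eq,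
          mul_inv_cancel_right] }
  set R : Subgroup X := F ⊓ δ.range.comap π with hRdef
  have hRW : R ≤ W := by
    rintro r ⟨hr, v, hv⟩
    refine (hWmem r hr).mpr ?_
    rw [map_commutatorElement, ← hv]
    show ⁅π z, π ⁅z, (v : X)⁆⁆ = 1
    rw [← map_commutatorElement, hker]
    have hz' : z⁻¹ = z := inv_eq_of_mul_eq_one_right hz2
    have e : ⁅z, ⁅z, (v : X)⁆⁆ = ⁅z, (v : X)⁆⁻¹ * ⁅z, (v : X)⁆⁻¹ := by
      simp only [commutatorElement_def, mul_inv_rev, hz', inv_inv, mul_assoc]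
      rw [← mul_assoc z z, hz2, one_mul]
    rw [e]
    exact hF.sq_mem (F.inv_mem (hcF z _ v.2))
  have hRperp : ∀ r ∈ R, ∀ w ∈ W, Commute r w := by
    rintro r ⟨hr, v, hv⟩ w hw
    have hc : Commute ⁅z, (v : X)⁆ w := by
      rw [hadj _ v.2 _ hw.1]
      rcases (hker _).mp ((hWmem w hw.1).mp hw) with e | e
      · rw [e]; exact Commute.one_right _
      · rw [e]; exact (hx _).symm
    exact (hmod _ (hcF z _ v.2) r hv.symm w).mpr hc
  have hWperp : ∀ v ∈ F, (∀ w ∈ W, Commute v w) → v ∈ R := by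
    intro v hv h
    by_contra hvR
    have hxR : x ∈ R := ⟨hF.mem, 1, by rw [map_one]; exact ((hker x).mpr (Or.inr rfl)).symm⟩
    obtain ⟨g, hg, hgR, hgv⟩ := hF.exists_separating inf_le_left hxR hv hvR
    have hgW : g ∈ W := by
      refine (hWmem g hg).mpr (hFc _ (hcF z g hg) fun y hy => ?_)
      rw [hadj g hg y hy]
      exact hgR _ ⟨hcF z y hy, ⟨y, hy⟩, rfl⟩
    rw [(h g hgW).symm.eq, mul_inv_cancel_right] at hgv
    exact hF.ne_one (left_eq_mul.mp hgv)
  -- the key: a pair acting trivially on `W` modulo `x` commutes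
  set K : Subgroup X := A ⊓ (Subgroup.centralizer (π '' (W : Set X))).comap π with hKdef
  have hKmem : ∀ g ∈ A, (g ∈ K ↔ ∀ w ∈ W, π (g * w * g⁻¹) = π w) := fun g hg => by
    constructor
    · intro h w hw
      rw [map_mul, map_mul, map_inv, ← h.2 (π w) ⟨w, hw, rfl⟩, mul_inv_cancel_right]
    · intro h
      refine ⟨hg, ?_⟩
      rintro _ ⟨w, hw, rfl⟩
      have := h w hw
      rw [map_mul, map_mul, map_inv, mul_inv_eq_iff_eq_mul] at this
      exact this.symm
  have hpair : ∀ g ∈ A, ∀ h ∈ A, (∀ v ∈ F, π (g * ⁅h, v⁆ * g⁻¹) = π ⁅h, v⁆) →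
      (∀ v ∈ F, π (h * ⁅g, v⁆ * h⁻¹) = π ⁅g, v⁆) → Commute g h := by
    intro g hg h hh hfg hfh
    by_contra hne
    have hgh : g * h = h * g * z := (hAc g hg h hh).resolve_left hne
    have act : ∀ g h : X, (∀ v ∈ F, π (g * ⁅h, v⁆ * g⁻¹) = π ⁅h, v⁆) → ∀ v ∈ F,
        π (g * h * v * (g * h)⁻¹) = π ⁅h, v⁆ * π ⁅g, v⁆ * π v := by
      intro g h hf v hv
      have e : g * h * v * (g * h)⁻¹ = g * ⁅h, v⁆ * g⁻¹ * (⁅g, v⁆ * v) := by
        simp only [commutatorElement_def]; group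
      rw [e, map_mul, map_mul π ⁅g, v⁆, hf v hv, mul_assoc]
    -- so `z` would centralise `F` modulo `x`
    have hz : ∀ v ∈ F, z * v * z⁻¹ = v ∨ z * v * z⁻¹ = v * x := by
      intro v hv
      have e1 := act g h hfg v hv
      have e2 := act h g hfh v hv
      rw [(hπc _ (hcF g v hv) _ (hcF h v hv)).eq, ← e1] at e2
      have e3 : π (g * h * v * (g * h)⁻¹) = π (h * g * (z * v * z⁻¹) * (h * g)⁻¹) := by
        rw [hgh]; congr 1; group
      rw [e3] at e2
      have e4 : π v = π (z * v * z⁻¹) := by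
        simp only [map_mul, map_inv] at e2 ⊢
        exact mul_left_cancel (mul_right_cancel e2)
      rcases (hker ((z * v * z⁻¹) * v⁻¹)).mp (by rw [map_mul, ← e4, map_inv, mul_inv_cancel]) with e | e
      · exact Or.inl (mul_inv_eq_one.mp e)
      · exact Or.inr ((mul_inv_eq_iff_eq_mul.mp e).trans (hx v).eq)
    have hzx : z * x * z⁻¹ = x := by rw [← (hx z).eq, mul_inv_cancel_right]
    obtain ⟨f, hf, hff⟩ := hF.exists_inner hzx hz
    refine hzF ?_
    have hc : f⁻¹ * z ∈ Subgroup.centralizer (F : Set X) := by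
      intro v hv
      have h := hff v hv
      calc v * (f⁻¹ * z) = f⁻¹ * (f * v * f⁻¹) * z := by group
        _ = f⁻¹ * (z * v * z⁻¹) * z := by rw [h]
        _ = _ := by group
    simpa using F.mul_mem hf (hself hc)
  have hKab : ∀ g ∈ K, ∀ h ∈ K, Commute g h := by
    intro g hg h hh
    have stepW : ∀ g ∈ K, ∀ v ∈ F, ⁅g, v⁆ ∈ W := fun g hg v hv =>
      hRW (hWperp _ (hcF g v hv) fun w hw =>
        hperp g hg.1 v hv w hw.1 ((hKmem g hg.1).mp hg w hw))
    exact hpair g hg.1 h hh.1 (fun v hv => (hKmem g hg.1).mp hg _ (stepW h hh v hv))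
      (fun v hv => (hKmem h hh.1).mp hh _ (stepW g hg v hv))
  -- a reason for all of `A` to act trivially
  have allK : (∀ g ∈ A, ∀ w ∈ W, π (g * w * g⁻¹) = π w) → ∀ g ∈ A, ∀ h ∈ A, Commute g h :=
    fun h g hg k hk => hKab g ((hKmem g hg).mpr (h g hg)) k ((hKmem k hk).mpr (h k hk))
  have hWsplit : ∀ c ∈ W, c ∉ D → ∀ g ∈ A, π (g * c * g⁻¹) = π c → ∀ w ∈ W, π (g * w * g⁻¹) = π w := by
    intro c hc hcD g hg he w hw
    by_cases hwD : w ∈ D
    · exact hAD g hg w hwD
    · have h := hAD g hg _ (hWD2 c hc w hw hcD hwD)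
      have e : g * w * g⁻¹ = g * c * g⁻¹ * (g * (c⁻¹ * w) * g⁻¹) := by group
      rw [e, map_mul, he, h, ← map_mul, mul_inv_cancel_left]
  by_cases hRD : R ≤ D
  · left
    -- `⁅g, v⁆` is orthogonal to `D`, hence lies in `D`
    have hsub : ∀ g ∈ A, ∀ v ∈ F, ⁅g, v⁆ ∈ D := by
      intro g hg v hv
      set u := ⁅g, v⁆ with hu
      have huF : u ∈ F := hcF g v hv
      have huD : ∀ d ∈ D, Commute u d := fun d hd => hperp g hg v hv d hd.1 (hAD g hg d hd)
      have huW : u ∈ W := by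
        refine (hWmem u huF).mpr (hFc _ (hcF z u huF) fun y hy => ?_)
        rw [hadj u huF y hy]
        exact huD _ (hRD ⟨hcF z y hy, ⟨y, hy⟩, rfl⟩)
      by_contra hu'
      refine hu' (hRD (hWperp u huF fun w hw => ?_))
      by_cases hwD : w ∈ D
      · exact huD w hwD
      · have h1 := huD _ (hWD2 u huW w hw hu' hwD)
        simpa using (Commute.refl u).mul_right h1
    exact fun g hg h hh => hpair g hg h hh (fun v hv => hAD g hg _ (hsub h hh v hv))
      (fun v hv => hAD h hh _ (hsub g hg v hv))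
  obtain ⟨c, hcR, hcD⟩ := SetLike.not_le_iff_exists.mp hRD
  obtain ⟨⟨v1, hv1⟩, hcv : π ⁅z, v1⁆ = π c⟩ := hcR.2
  have hcW : c ∈ W := hRW hcR
  by_cases hsmall : ∀ r ∈ R, π r = 1 ∨ π r = π c
  · left
    refine allK fun g hg => hWsplit c hcW hcD g hg ?_
    have hgc : π (g * c * g⁻¹) = π ⁅z, g * v1 * g⁻¹⁆ := by
      rw [map_mul, map_mul, ← hcv, ← map_mul, ← map_mul]
      congr 1
      have hgz := (hA g hg).eq
      calc g * ⁅z, v1⁆ * g⁻¹ = (g * z) * v1 * (g * z)⁻¹ * (g * v1⁻¹ * g⁻¹) := by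
            simp only [commutatorElement_def]; group
        _ = (z * g) * v1 * (z * g)⁻¹ * (g * v1⁻¹ * g⁻¹) := by rw [hgz]
        _ = _ := by simp only [commutatorElement_def]; group
    have hgF : g * c * g⁻¹ ∈ F := Subgroup.Normal.conj_mem inferInstance c hcW.1 g
    rcases hsmall (g * c * g⁻¹)
        ⟨hgF, ⟨g * v1 * g⁻¹, Subgroup.Normal.conj_mem inferInstance v1 hv1 g⟩, hgc.symm⟩ with e | e
    · exfalso
      rw [map_mul, map_mul, map_inv] at e
      have : π c = 1 := conj_eq_one_iff.mp e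
      refine hcD ?_
      rcases (hker c).mp this with rfl | rfl
      · exact D.one_mem
      · exact ⟨hF.mem, Subgroup.mem_centralizer_singleton_iff.mpr (hx z).eq⟩
    · exact e
  right
  constructor
  · refine ⟨K, inf_le_left, hKab, fun g hg h hh hg' hh' => ?_⟩
    -- the shift of `c` takes at most one nontrivial value
    have shift : ∀ g ∈ A, π ⁅g, c⁆ = π ⁅z, ⁅g, v1⁆⁆ := by
      intro g hg
      have hgz : Commute (π g) (π z) := (hA g hg).map π
      rw [map_commutatorElement, ← hcv, map_commutatorElement, map_commutatorElement π z, map_commutatorElement]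
      have hab : ∀ u ∈ F, ∀ v ∈ F, π u * π v = π v * π u := fun u hu v hv => (hπc u hu v hv).eq
      have p1 : π g * ⁅π z, π v1⁆ * (π g)⁻¹ = ⁅π z, π g * π v1 * (π g)⁻¹⁆ := by
        simp only [commutatorElement_def]
        calc π g * (π z * π v1 * (π z)⁻¹ * (π v1)⁻¹) * (π g)⁻¹
            = (π g * π z) * π v1 * (π g * π z)⁻¹ * (π g * (π v1)⁻¹ * (π g)⁻¹) := by group
          _ = (π z * π g) * π v1 * (π z * π g)⁻¹ * (π g * (π v1)⁻¹ * (π g)⁻¹) := by rw [hgz.eq]
          _ = _ := by group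
      have p2 : ⁅π z, π g * π v1 * (π g)⁻¹⁆ = ⁅π z, ⁅π g, π v1⁆⁆ * ⁅π z, π v1⁆ := by
        have e := δ.map_mul ⟨⁅g, v1⁆, hcF g v1 hv1⟩ ⟨v1, hv1⟩
        change π ⁅z, ⁅g, v1⁆ * v1⁆ = π ⁅z, ⁅g, v1⁆⁆ * π ⁅z, v1⁆ at e
        have e' : ⁅g, v1⁆ * v1 = g * v1 * g⁻¹ := by simp [commutatorElement_def]
        rw [e', map_commutatorElement, map_commutatorElement, map_commutatorElement π z v1,
          map_commutatorElement π g, map_mul, map_mul, map_inv] at e
        exact e
      rw [commutatorElement_def (π g), p1, p2, mul_inv_cancel_right]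
    have hnt : ∀ g ∈ A, g ∉ K → π ⁅g, c⁆ ≠ 1 := fun g hg hgK e => hgK ((hKmem g hg).mpr
      (hWsplit c hcW hcD g hg (by rwa [commutatorElement_def, map_mul, map_inv, mul_inv_eq_one] at e)))
    have hval : ∀ g ∈ A, ∀ h ∈ A, g ∉ K → h ∉ K → π ⁅g, c⁆ = π ⁅h, c⁆ := by
      intro g hg h hh hgK hhK
      set u := ⁅g, v1⁆ with hu
      set u' := ⁅h, v1⁆ with hu'
      have huF : u ∈ F := hcF g v1 hv1
      have hu'F : u' ∈ F := hcF h v1 hv1
      have hperpD : ∀ g ∈ A, ∀ d ∈ D, Commute ⁅g, v1⁆ d := fun g hg d hd =>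
        hperp g hg v1 hv1 d hd.1 (hAD g hg d hd)
      have hnc : ∀ g ∈ A, g ∉ K → ¬ Commute ⁅g, v1⁆ c := by
        intro g hg hgK hcc
        refine hnt g hg hgK ?_
        rw [shift g hg, ← hWmem _ (hcF g v1 hv1)]
        refine hRW (hWperp _ (hcF g v1 hv1) fun w hw => ?_)
        by_cases hwD : w ∈ D
        · exact hperpD g hg w hwD
        · simpa using hcc.mul_right (hperpD g hg _ (hWD2 c hcW w hw hcD hwD))
      have hcomm : Commute (u * u') c :=
        (hF.commute_mul_iff huF hu'F hcW.1).mpr (iff_of_false (hnc g hg hgK) (hnc h hh hhK))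
      have hmem : u * u' ∈ W := hRW (hWperp _ (F.mul_mem huF hu'F) fun w hw => by
        by_cases hwD : w ∈ D
        · exact (hperpD g hg w hwD).mul_left (hperpD h hh w hwD)
        · have hd := hWD2 c hcW w hw hcD hwD
          simpa using hcomm.mul_right ((hperpD g hg _ hd).mul_left (hperpD h hh _ hd)))
      have e : π ⁅z, u * u'⁆ = 1 := (hWmem _ (F.mul_mem huF hu'F)).mp hmem
      have e' := δ.map_mul ⟨u, huF⟩ ⟨u', hu'F⟩
      change π ⁅z, u * u'⁆ = π ⁅z, u⁆ * π ⁅z, u'⁆ at e'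
      rw [e] at e'
      rw [shift g hg, shift h hh, eq_inv_of_mul_eq_one_right e'.symm]
      exact (hπinv _ (hcF z u huF)).symm
    refine (hKmem _ (A.mul_mem (A.inv_mem hg) hh)).mpr (hWsplit c hcW hcD _ (A.mul_mem (A.inv_mem hg) hh) ?_)
    have e := hval g hg h hh hg' hh'
    rw [commutatorElement_def, commutatorElement_def, map_mul, map_mul π (h * c * h⁻¹)] at e
    have e' := mul_right_cancel e
    calc π (g⁻¹ * h * c * (g⁻¹ * h)⁻¹) = (π g)⁻¹ * π (h * c * h⁻¹) * π g := by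
          simp only [map_mul, map_inv, mul_inv_rev, inv_inv, mul_assoc]
      _ = (π g)⁻¹ * π (g * c * g⁻¹) * π g := by rw [e']
      _ = π c := by simp only [map_mul, map_inv]; group
  · push Not at hsmall
    obtain ⟨r, hr, hr1, hrc⟩ := hsmall
    have hc1 : π c ≠ 1 := fun h => hcD (by
      rcases (hker c).mp h with rfl | rfl
      · exact D.one_mem
      · exact ⟨hF.mem, Subgroup.mem_centralizer_singleton_iff.mpr (hx z).eq⟩)
    obtain ⟨⟨v2, hv2⟩, hrv : π ⁅z, v2⁆ = π r⟩ := hr.2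
    have hrange : 3 ≤ Nat.card ↥δ.range := by
      haveI : Fintype ↥δ.range := Fintype.ofFinite _
      rw [Nat.card_eq_fintype_card]
      have h3 : ({1, δ.rangeRestrict ⟨v1, hv1⟩, δ.rangeRestrict ⟨v2, hv2⟩} : Finset ↥δ.range).card = 3 :=
        Finset.card_eq_three.mpr ⟨_, _, _, fun h => hc1 (hcv ▸ (congrArg Subtype.val h).symm),
          fun h => hr1 (hrv ▸ (congrArg Subtype.val h).symm),
          fun h => hrc (hrv ▸ hcv ▸ (congrArg Subtype.val h).symm), rfl⟩
      rw [← h3]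
      exact Finset.card_le_univ _
    have hker' : Nat.card ↥δ.ker = Nat.card ↥W := by
      refine Nat.card_congr ⟨fun v => ⟨(v : ↥F), (hWmem _ (v : ↥F).2).mpr v.2⟩,
        fun w => ⟨⟨w, w.2.1⟩, (hWmem _ w.2.1).mp w.2⟩, fun _ => rfl, fun _ => rfl⟩
    have hFcard : Nat.card ↥F = Nat.card ↥δ.range * Nat.card ↥W := by
      rw [← hker', ← Subgroup.index_ker, mul_comm, Subgroup.card_mul_index]
    have h2 := card_two_mul_le (lt_of_le_of_ne hDW fun e => hcD (e ▸ hcW))
    rw [hFcard]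
    calc 6 * Nat.card ↥D = 3 * (2 * Nat.card ↥D) := by ring
      _ ≤ _ := Nat.mul_le_mul hrange h2

end CfsgLib.Extra2
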